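import Groth.Agent.AdeqTF.K576.Tangent

/-!
# Injective module-valued functors send surjections of algebras to surjections
-/

set_option autoImplicit false
universe u
open CategoryTheory Limits

namespace K576.Inj

variable {A : Type u} [CommRing A]

/-- the additive part of the free functor on `Hom(B, -)` -/
noncomputable def jmap (B : Adeq.Alg A) {X Y : Adeq.Alg A} (f : X ⟶ Y) :
    (ULift.{u + 1} (B ⟶ X) →₀ X) →+ (ULift.{u + 1} (B ⟶ Y) →₀ Y) :=
  Finsupp.liftAddHom (fun g => (Finsupp.singleAddHom (⟨g.down ≫ f⟩ : ULift.{u + 1} (B ⟶ Y))).comp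
    (f.hom.toRingHom.toAddMonoidHom))

theorem jmap_single (B : Adeq.Alg A) {X Y : Adeq.Alg A} (f : X ⟶ Y) (g : ULift.{u + 1} (B ⟶ X)) (d : X) :
    jmap B f (Finsupp.single g d) = Finsupp.single ⟨g.down ≫ f⟩ (f.hom d) := by
  simp [jmap]

/-- the free functor on `Hom(B, -)`, additive part -/
noncomputable abbrev jAb (B : Adeq.Alg A) : (Adeq.Alg A)ᵒᵖᵒᵖ ⥤ Ab.{u + 1} where
  obj X := AddCommGrpCat.of (ULift.{u + 1} (B ⟶ X.unop.unop) →₀ X.unop.unop)
  map {X Y} f := AddCommGrpCat.ofHom (jmap B f.unop.unop)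
  map_id X := by
    apply AddCommGrpCat.hom_ext
    refine Finsupp.addHom_ext fun g d => ?_
    change jmap B (𝟙 X.unop.unop) (Finsupp.single g d) = Finsupp.single g d
    rw [jmap_single, Category.comp_id]
    rfl
  map_comp {X Y Z} f g := by
    apply AddCommGrpCat.hom_ext
    refine Finsupp.addHom_ext fun h d => ?_
    change jmap B (f.unop.unop ≫ g.unop.unop) (Finsupp.single h d) =
      jmap B g.unop.unop (jmap B f.unop.unop (Finsupp.single h d))
    rw [jmap_single, jmap_single, jmap_single, Category.assoc]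
    rfl

/-- the free functor on `Hom(B, -)` -/
noncomputable def j (B : Adeq.Alg A) : Adeq.MVF A :=
  PresheafOfModules.ofPresheaf (jAb B) (by
    intro X Y f r m
    change jmap B f.unop.unop (r • m) = f.unop.unop.hom r • jmap B f.unop.unop m
    induction m using Finsupp.induction_linear with
    | zero => rw [smul_zero, map_zero, smul_zero]
    | add x y hx hy => rw [smul_add, map_add, map_add, smul_add, hx, hy]
    | single g d =>
      rw [Finsupp.smul_single, jmap_single, jmap_single, Finsupp.smul_single]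
      congr 1
      exact map_mul f.unop.unop.hom r d)

/-- precomposition as a map on the free functors, additive part -/
noncomputable def preHom {B B' : Adeq.Alg A} (φ : B ⟶ B') (X : Adeq.Alg A) :
    (ULift.{u + 1} (B' ⟶ X) →₀ X) →+ (ULift.{u + 1} (B ⟶ X) →₀ X) :=
  Finsupp.mapDomain.addMonoidHom (fun g => ⟨φ ≫ g.down⟩)

theorem preHom_single {B B' : Adeq.Alg A} (φ : B ⟶ B') (X : Adeq.Alg A)
    (g : ULift.{u + 1} (B' ⟶ X)) (d : X) :
    preHom φ X (Finsupp.single g d) = Finsupp.single ⟨φ ≫ g.down⟩ d :=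
  Finsupp.mapDomain_single

/-- precomposition `j B' ⟶ j B`. -/
noncomputable def pre {B B' : Adeq.Alg A} (φ : B ⟶ B') : j B' ⟶ j B :=
  PresheafOfModules.homMk (M₁ := j B') (M₂ := j B)
    { app X := AddCommGrpCat.ofHom (preHom φ X.unop.unop)
      naturality {X Y} f := by
        apply AddCommGrpCat.hom_ext
        refine Finsupp.addHom_ext fun g d => ?_
        change preHom φ Y.unop.unop (jmap B' f.unop.unop (Finsupp.single g d)) =
          jmap B f.unop.unop (preHom φ X.unop.unop (Finsupp.single g d))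
        rw [jmap_single, preHom_single, preHom_single, jmap_single, Category.assoc] }
    (by
      intro X r m
      exact Finsupp.mapDomain_smul r m)

theorem pre_app_apply {B B' : Adeq.Alg A} (φ : B ⟶ B') (X : Adeq.Alg A)
    (m : (j B').obj (Adeq.pt X)) : ((pre φ).app (Adeq.pt X)).hom m = preHom φ X m := rfl

theorem mono_pre {B B' : Adeq.Alg A} (φ : B ⟶ B') (hφ : Function.Surjective φ.hom) :
    Mono (pre φ) := by
  apply PresheafOfModules.mono_of_injective
  intro X
  refine Finsupp.mapDomain_injective ?_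
  rintro ⟨g⟩ ⟨h⟩ e
  have e' : φ ≫ g = φ ≫ h := congrArg ULift.down e
  congr 1
  apply CommAlgCat.hom_ext
  refine AlgHom.ext fun x => ?_
  obtain ⟨x, rfl⟩ := hφ x
  exact congrArg (fun m => m.hom x) e'

/-- the additive map `j B (X) → I (X)` given by an element of `I(B)` -/
noncomputable def descHom (I : Adeq.MVF A) {B : Adeq.Alg A} (x : I.obj (Adeq.pt B)) (X : Adeq.Alg A) :
    (ULift.{u + 1} (B ⟶ X) →₀ X) →ₗ[X] I.obj (Adeq.pt X) :=
  Finsupp.linearCombination X (fun g => Tangent.mp I g.down x)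

theorem descHom_single (I : Adeq.MVF A) {B : Adeq.Alg A} (x : I.obj (Adeq.pt B)) (X : Adeq.Alg A)
    (g : ULift.{u + 1} (B ⟶ X)) (d : X) :
    descHom I x X (Finsupp.single g d) = d • Tangent.mp I g.down x :=
  Finsupp.linearCombination_single _ _ _

theorem mp_smul (I : Adeq.MVF A) {X Y : Adeq.Alg A} (f : X ⟶ Y) (d : X) (x : I.obj (Adeq.pt X)) :
    Tangent.mp I f (d • x) = (f.hom d) • Tangent.mp I f x :=
  PresheafOfModules.map_smul I (Adeq.ptHom f) d x

/-- the morphism `j B ⟶ I` given by an element of `I(B)`. -/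
noncomputable def desc (I : Adeq.MVF A) {B : Adeq.Alg A} (x : I.obj (Adeq.pt B)) : j B ⟶ I :=
  PresheafOfModules.homMk (M₁ := j B) (M₂ := I)
    { app X := AddCommGrpCat.ofHom (descHom I x X.unop.unop).toAddMonoidHom
      naturality {X Y} f := by
        apply AddCommGrpCat.hom_ext
        refine Finsupp.addHom_ext fun g d => ?_
        change descHom I x Y.unop.unop (jmap B f.unop.unop (Finsupp.single g d)) =
          Tangent.mp I f.unop.unop (descHom I x X.unop.unop (Finsupp.single g d))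
        rw [jmap_single, descHom_single, descHom_single, mp_smul, Tangent.mp_comp] }
    (by
      intro X r m
      exact (descHom I x X.unop.unop).map_smul r m)

theorem desc_app_apply (I : Adeq.MVF A) {B : Adeq.Alg A} (x : I.obj (Adeq.pt B)) (X : Adeq.Alg A)
    (m : (j B).obj (Adeq.pt X)) : ((desc I x).app (Adeq.pt X)).hom m = descHom I x X m := rfl

theorem surjective_of_injective (I : Adeq.MVF A) [Injective I] {B B' : Adeq.Alg A} (φ : B ⟶ B')
    (hφ : Function.Surjective φ.hom) : Function.Surjective (Tangent.mp I φ) := by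
  intro x
  have := mono_pre φ hφ
  let ψ : j B ⟶ I := Injective.factorThru (desc I x) (pre φ)
  have hψ : pre φ ≫ ψ = desc I x := Injective.comp_factorThru (desc I x) (pre φ)
  let e : (j B).obj (Adeq.pt B) := Finsupp.single (⟨𝟙 B⟩ : ULift.{u + 1} (B ⟶ B)) (1 : B)
  let e' : (j B').obj (Adeq.pt B') := Finsupp.single (⟨𝟙 B'⟩ : ULift.{u + 1} (B' ⟶ B')) (1 : B')
  refine ⟨Tangent.nt ψ B e, ?_⟩
  rw [Tangent.mp_nt]
  have h1 : Tangent.mp (j B) φ e = ((pre φ).app (Adeq.pt B')).hom e' := by
    rw [pre_app_apply]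
    change jmap B φ (Finsupp.single (⟨𝟙 B⟩ : ULift.{u + 1} (B ⟶ B)) (1 : B)) = 
      preHom φ B' (Finsupp.single (⟨𝟙 B'⟩ : ULift.{u + 1} (B' ⟶ B')) (1 : B'))
    rw [jmap_single, preHom_single, map_one, Category.id_comp, Category.comp_id]
  rw [h1]
  have h2 : Tangent.nt ψ B' (((pre φ).app (Adeq.pt B')).hom e') = ((pre φ ≫ ψ).app (Adeq.pt B')).hom e' := rfl
  rw [h2, hψ, desc_app_apply]
  change descHom I x B' (Finsupp.single (⟨𝟙 B'⟩ : ULift.{u + 1} (B' ⟶ B')) (1 : B')) = x
  rw [descHom_single, one_smul, Tangent.mp_id]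

theorem tangentMap_surjective (I : Adeq.MVF A) [Injective I] (B : Adeq.Alg A)
    {N N' : ModuleCat.{u} B} (g : N ⟶ N') (hg : Function.Surjective g.hom) :
    Function.Surjective (AdeqTF.tangentMap B I g) := by
  rintro ⟨z, hz⟩
  have hs : Function.Surjective (AdeqTF.map B g).hom := by
    intro x
    obtain ⟨n, hn⟩ := hg (TrivSqZeroExt.snd x)
    refine ⟨TrivSqZeroExt.inl (TrivSqZeroExt.fst x) + TrivSqZeroExt.inr n, ?_⟩
    change TrivSqZeroExt.map g.hom _ = x
    ext
    · simp
    · simp [hn]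
  obtain ⟨y, hy⟩ := surjective_of_injective I (AdeqTF.map B g) hs z
  refine ⟨⟨y, ?_⟩, Subtype.ext hy⟩
  rw [Tangent.mem_tangent] at hz ⊢
  rw [← hy, Tangent.mp_comp, AdeqTF.map_fst] at hz
  exact hz

end K576.Inj
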