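import Mathlib.Algebra.Homology.ShortComplex.ShortExact
import Mathlib.Algebra.Homology.ShortComplex.ModuleCat
import Mathlib.Algebra.Homology.ShortComplex.PreservesHomology
import Mathlib.Algebra.Category.ModuleCat.Abelian
import Mathlib.CategoryTheory.Preadditive.Injective.Basic
import Groth.Prelude.Def_W4stkadequateTF

/-!
# Tangent modules of module-valued functors: elementwise functoriality and exactness
-/

set_option autoImplicit false
universe u
open CategoryTheory Limits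

namespace K576.Tangent

variable {A : Type u} [CommRing A]

/-- `F(B) → F(B')` as a map of additive groups. -/
noncomputable def mp (F : Adeq.MVF A) {B B' : Adeq.Alg A} (f : B ⟶ B') :
    F.obj (Adeq.pt B) →+ F.obj (Adeq.pt B') :=
  (F.map (Adeq.ptHom f)).hom.toAddMonoidHom

/-- the component of a morphism of functors -/
noncomputable def nt {F G : Adeq.MVF A} (φ : F ⟶ G) (B : Adeq.Alg A) :
    F.obj (Adeq.pt B) →+ G.obj (Adeq.pt B) :=
  (φ.app (Adeq.pt B)).hom.toAddMonoidHom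

theorem mp_comp (F : Adeq.MVF A) {B B' B'' : Adeq.Alg A} (f : B ⟶ B') (g : B' ⟶ B'')
    (x : F.obj (Adeq.pt B)) : mp F g (mp F f x) = mp F (f ≫ g) x :=
  (PresheafOfModules.map_comp_apply F (Adeq.ptHom f) (Adeq.ptHom g) x).symm

theorem mp_id (F : Adeq.MVF A) {B : Adeq.Alg A}
    (x : F.obj (Adeq.pt B)) : mp F (𝟙 B) x = x := by
  have h := F.map_id (Adeq.pt B)
  have := congrArg (fun m => m.hom x) h
  exact this

theorem mp_nt {F G : Adeq.MVF A} (φ : F ⟶ G) {B B' : Adeq.Alg A} (f : B ⟶ B')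
    (x : F.obj (Adeq.pt B)) : mp G f (nt φ B x) = nt φ B' (mp F f x) :=
  (PresheafOfModules.naturality_apply φ (Adeq.ptHom f) x).symm

universe v₁ u₁ v w in
theorem eval_gen {D : Type u₁} [Category.{v₁} D] (R : Dᵒᵖ ⥤ RingCat.{w})
    {S : ShortComplex (PresheafOfModules.{v} R)} (hS : S.ShortExact) (X : Dᵒᵖ) :
    Function.Injective (S.f.app X).hom ∧ Function.Surjective (S.g.app X).hom ∧
      ∀ y, (S.g.app X).hom y = 0 → ∃ x, (S.f.app X).hom x = y := by
  have h := hS.map_of_exact (PresheafOfModules.evaluation.{v} R X)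
  refine ⟨(ModuleCat.mono_iff_injective _).1 h.mono_f, (ModuleCat.epi_iff_surjective _).1 h.epi_g, ?_⟩
  intro y hy
  exact (ShortComplex.moduleCat_exact_iff _).1 h.exact y hy

/-- Evaluation of a short exact sequence. -/
theorem eval_shortExact {C : ShortComplex (Adeq.MVF A)} (hC : C.ShortExact) (B : Adeq.Alg A) :
    Function.Injective (nt C.f B) ∧ Function.Surjective (nt C.g B) ∧
      ∀ y, nt C.g B y = 0 → ∃ x, nt C.f B x = y := by
  exact eval_gen (Adeq.ringOf A) hC (Adeq.pt B)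

theorem nt_comp_zero {C : ShortComplex (Adeq.MVF A)} (B : Adeq.Alg A) (x : C.X₁.obj (Adeq.pt B)) :
    nt C.g B (nt C.f B x) = 0 := by
  have h := congrArg (fun m => (PresheafOfModules.Hom.app m (Adeq.pt B)).hom x) C.zero
  exact h

variable (B : Adeq.Alg A)

theorem inl_fst (N : ModuleCat.{u} B) : AdeqTF.inl B N ≫ AdeqTF.fst B N = 𝟙 B := by
  apply CommAlgCat.hom_ext
  refine AlgHom.ext fun x => ?_
  rfl

theorem inl_map {N N' : ModuleCat.{u} B} (g : N ⟶ N') :
    AdeqTF.inl B N ≫ AdeqTF.map B g = AdeqTF.inl B N' := by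
  apply CommAlgCat.hom_ext
  refine AlgHom.ext fun x => ?_
  change TrivSqZeroExt.map g.hom (TrivSqZeroExt.inl x) = TrivSqZeroExt.inl x
  simp

theorem map_comp {N N' N'' : ModuleCat.{u} B} (g : N ⟶ N') (g' : N' ⟶ N'') :
    AdeqTF.map B (g ≫ g') = AdeqTF.map B g ≫ AdeqTF.map B g' := by
  apply CommAlgCat.hom_ext
  refine AlgHom.ext fun x => ?_
  change TrivSqZeroExt.map (g ≫ g').hom x = TrivSqZeroExt.map g'.hom (TrivSqZeroExt.map g.hom x)
  rw [ModuleCat.hom_comp, TrivSqZeroExt.map_comp_map]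
  rfl

theorem map_id (N : ModuleCat.{u} B) : AdeqTF.map B (𝟙 N) = 𝟙 _ := by
  apply CommAlgCat.hom_ext
  refine AlgHom.ext fun x => ?_
  change TrivSqZeroExt.map (𝟙 N : N ⟶ N).hom x = x
  rw [ModuleCat.hom_id, TrivSqZeroExt.map_id]
  rfl

theorem map_zero_eq (N N' : ModuleCat.{u} B) :
    AdeqTF.map B (0 : N ⟶ N') = AdeqTF.fst B N ≫ AdeqTF.inl B N' := by
  apply CommAlgCat.hom_ext
  refine AlgHom.ext fun x => ?_
  change TrivSqZeroExt.map (0 : N ⟶ N').hom x = TrivSqZeroExt.inl (TrivSqZeroExt.fst x)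
  ext
  · simp
  · simp

section
variable {B}
variable (F : Adeq.MVF A) {N N' N'' : ModuleCat.{u} B}

theorem mem_tangent (x : F.obj (Adeq.pt (AdeqTF.ext B N))) :
    x ∈ AdeqTF.tangent B N F ↔ mp F (AdeqTF.fst B N) x = 0 := Iff.rfl

@[simp] theorem coe_tangentMap (g : N ⟶ N') (x : AdeqTF.tangent B N F) :
    ((AdeqTF.tangentMap B F g x : AdeqTF.tangent B N' F) : F.obj (Adeq.pt (AdeqTF.ext B N'))) =
      mp F (AdeqTF.map B g) x.1 := rfl

theorem tangentMap_comp (g : N ⟶ N') (g' : N' ⟶ N'') (x : AdeqTF.tangent B N F) :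
    AdeqTF.tangentMap B F g' (AdeqTF.tangentMap B F g x) = AdeqTF.tangentMap B F (g ≫ g') x := by
  apply Subtype.ext
  rw [coe_tangentMap, coe_tangentMap, coe_tangentMap, mp_comp, map_comp]

theorem tangentMap_id (x : AdeqTF.tangent B N F) :
    AdeqTF.tangentMap B F (𝟙 N) x = x := by
  apply Subtype.ext
  rw [coe_tangentMap, map_id, mp_id]

theorem tangentMap_zero (x : AdeqTF.tangent B N F) :
    AdeqTF.tangentMap B F (0 : N ⟶ N') x = 0 := by
  apply Subtype.ext
  rw [coe_tangentMap, map_zero_eq, ← mp_comp]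
  rw [(mem_tangent F x.1).1 x.2, map_zero]
  rfl

end

section
variable {B} {F G : Adeq.MVF A} (φ : F ⟶ G) {N N' : ModuleCat.{u} B}

/-- the map of tangent modules induced by a morphism of functors -/
noncomputable def tnt (B : Adeq.Alg A) (N : ModuleCat.{u} B) : AdeqTF.tangent B N F →+ AdeqTF.tangent B N G :=
  ((nt φ (AdeqTF.ext B N)).comp (AdeqTF.tangent B N F).subtype).codRestrict (AdeqTF.tangent B N G)
    (fun x => by
      rw [mem_tangent]
      change mp G (AdeqTF.fst B N) (nt φ _ x.1) = 0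
      rw [mp_nt, (mem_tangent F x.1).1 x.2, map_zero])

@[simp] theorem coe_tnt (x : AdeqTF.tangent B N F) :
    ((tnt φ B N x : AdeqTF.tangent B N G) : G.obj (Adeq.pt (AdeqTF.ext B N))) =
      nt φ (AdeqTF.ext B N) x.1 := rfl

theorem tangentMap_tnt (g : N ⟶ N') (x : AdeqTF.tangent B N F) :
    AdeqTF.tangentMap B G g (tnt φ B N x) = tnt φ B N' (AdeqTF.tangentMap B F g x) := by
  apply Subtype.ext
  rw [coe_tangentMap, coe_tnt, coe_tnt, coe_tangentMap, mp_nt]

end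

section
variable {C : ShortComplex (Adeq.MVF A)} (hC : C.ShortExact) (B : Adeq.Alg A) (N : ModuleCat.{u} B)
include hC

theorem tnt_injective : Function.Injective (tnt C.f B N) := by
  intro x y hxy
  apply Subtype.ext
  apply (eval_shortExact hC (AdeqTF.ext B N)).1
  exact congrArg Subtype.val hxy

theorem tnt_surjective : Function.Surjective (tnt C.g B N) := by
  rintro ⟨z, hz⟩
  obtain ⟨y, rfl⟩ := (eval_shortExact hC (AdeqTF.ext B N)).2.1 z
  rw [mem_tangent] at hz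
  refine ⟨⟨y - mp C.X₂ (AdeqTF.inl B N) (mp C.X₂ (AdeqTF.fst B N) y), ?_⟩, ?_⟩
  · rw [mem_tangent, map_sub, mp_comp, inl_fst, mp_id, sub_self]
  · apply Subtype.ext
    rw [coe_tnt]
    change nt C.g _ (y - mp C.X₂ (AdeqTF.inl B N) (mp C.X₂ (AdeqTF.fst B N) y)) = nt C.g _ y
    rw [map_sub, ← mp_nt, ← mp_nt, hz, map_zero, sub_zero]

theorem tnt_exact (y : AdeqTF.tangent B N C.X₂) (hy : tnt C.g B N y = 0) :
    ∃ x, tnt C.f B N x = y := by
  obtain ⟨y, hy'⟩ := y
  obtain ⟨x, rfl⟩ := (eval_shortExact hC (AdeqTF.ext B N)).2.2 y (congrArg Subtype.val hy)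
  refine ⟨⟨x, ?_⟩, rfl⟩
  rw [mem_tangent] at hy' ⊢
  rw [mp_nt] at hy'
  exact (eval_shortExact hC B).1 (by rw [hy', map_zero])

omit hC in
theorem tnt_comp_zero (x : AdeqTF.tangent B N C.X₁) : tnt C.g B N (tnt C.f B N x) = 0 := by
  apply Subtype.ext
  exact nt_comp_zero _ _

end

/-- right exactness of the tangent functors -/
def RightExact (F : Adeq.MVF A) : Prop :=
  ∀ (B : Adeq.Alg A) (S : ShortComplex (ModuleCat.{u} B)), S.ShortExact →
        Function.Surjective (AdeqTF.tangentMap B F S.g) ∧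
          (AdeqTF.tangentMap B F S.g).ker = (AdeqTF.tangentMap B F S.f).range

theorem range_le_ker (F : Adeq.MVF A) (S : ShortComplex (ModuleCat.{u} B)) :
    (AdeqTF.tangentMap B F S.f).range ≤ (AdeqTF.tangentMap B F S.g).ker := by
  rintro _ ⟨x, rfl⟩
  rw [AddMonoidHom.mem_ker, tangentMap_comp, S.zero, tangentMap_zero]

theorem rightExact_left {C : ShortComplex (Adeq.MVF A)} (hC : C.ShortExact)
    (h₁ : RightExact C.X₁) (h₂ : RightExact C.X₂) : RightExact C.X₃ := by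
  intro B S hS
  refine ⟨?_, le_antisymm ?_ (range_le_ker B _ S)⟩
  · intro z
    obtain ⟨z, rfl⟩ := tnt_surjective hC B _ z
    obtain ⟨y, rfl⟩ := (h₂ B S hS).1 z
    exact ⟨_, tangentMap_tnt C.g S.g y⟩
  · intro z hz
    obtain ⟨y, rfl⟩ := tnt_surjective hC B _ z
    rw [AddMonoidHom.mem_ker, tangentMap_tnt] at hz
    obtain ⟨w, hw⟩ := tnt_exact hC B _ _ hz
    obtain ⟨v, rfl⟩ := (h₁ B S hS).1 w
    rw [← tangentMap_tnt] at hw
    have : y - tnt C.f B _ v ∈ (AdeqTF.tangentMap B C.X₂ S.g).ker := by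
      rw [AddMonoidHom.mem_ker, map_sub, hw, sub_self]
    rw [(h₂ B S hS).2] at this
    obtain ⟨t, ht⟩ := this
    refine ⟨tnt C.g B _ t, ?_⟩
    rw [tangentMap_tnt, ht, map_sub, tnt_comp_zero, sub_zero]

theorem rightExact_mid {C : ShortComplex (Adeq.MVF A)} (hC : C.ShortExact)
    (h₁ : RightExact C.X₁) (h₃ : RightExact C.X₃) : RightExact C.X₂ := by
  intro B S hS
  refine ⟨?_, le_antisymm ?_ (range_le_ker B _ S)⟩
  · intro z
    obtain ⟨x, hx⟩ := (h₃ B S hS).1 (tnt C.g B _ z)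
    obtain ⟨y, rfl⟩ := tnt_surjective hC B _ x
    rw [tangentMap_tnt] at hx
    have : tnt C.g B _ (z - AdeqTF.tangentMap B C.X₂ S.g y) = 0 := by
      rw [map_sub, hx, sub_self]
    obtain ⟨w, hw⟩ := tnt_exact hC B _ _ this
    obtain ⟨v, rfl⟩ := (h₁ B S hS).1 w
    refine ⟨y + tnt C.f B _ v, ?_⟩
    rw [map_add, tangentMap_tnt, hw, add_sub_cancel]
  · intro y hy
    rw [AddMonoidHom.mem_ker] at hy
    have h3 : tnt C.g B _ y ∈ (AdeqTF.tangentMap B C.X₃ S.g).ker := by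
      rw [AddMonoidHom.mem_ker, tangentMap_tnt, hy, map_zero]
    rw [(h₃ B S hS).2] at h3
    obtain ⟨t, ht⟩ := h3
    obtain ⟨t, rfl⟩ := tnt_surjective hC B _ t
    rw [tangentMap_tnt] at ht
    have : tnt C.g B _ (y - AdeqTF.tangentMap B C.X₂ S.f t) = 0 := by
      rw [map_sub, ht, sub_self]
    obtain ⟨w, hw⟩ := tnt_exact hC B _ _ this
    have hw0 : AdeqTF.tangentMap B C.X₁ S.g w = 0 := by
      apply tnt_injective hC B
      rw [← tangentMap_tnt, hw, map_sub, hy, tangentMap_comp, S.zero, tangentMap_zero, map_zero,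
        sub_zero]
    have hw1 : w ∈ (AdeqTF.tangentMap B C.X₁ S.g).ker := hw0
    rw [(h₁ B S hS).2] at hw1
    obtain ⟨v, rfl⟩ := hw1
    refine ⟨t + tnt C.f B _ v, ?_⟩
    rw [map_add, tangentMap_tnt, hw, add_sub_cancel]

theorem coprod_bijective {F : Adeq.MVF A} (hF : RightExact F) (B : Adeq.Alg A)
    (N₁ N₂ : ModuleCat.{u} B) :
    Function.Bijective ((AdeqTF.tangentMap B F (biprod.inl : N₁ ⟶ N₁ ⊞ N₂)).coprod
      (AdeqTF.tangentMap B F (biprod.inr : N₂ ⟶ N₁ ⊞ N₂))) := by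
  constructor
  · rw [injective_iff_map_eq_zero]
    rintro ⟨a, b⟩ hab
    rw [AddMonoidHom.coprod_apply] at hab
    have h1 := congrArg (AdeqTF.tangentMap B F (biprod.fst : N₁ ⊞ N₂ ⟶ N₁)) hab
    have h2 := congrArg (AdeqTF.tangentMap B F (biprod.snd : N₁ ⊞ N₂ ⟶ N₂)) hab
    rw [map_add, tangentMap_comp, tangentMap_comp, biprod.inl_fst, biprod.inr_fst, tangentMap_id,
      tangentMap_zero, map_zero, add_zero] at h1
    rw [map_add, tangentMap_comp, tangentMap_comp, biprod.inl_snd, biprod.inr_snd, tangentMap_id,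
      tangentMap_zero, map_zero, zero_add] at h2
    exact Prod.ext h1 h2
  · intro x
    have hS : (ShortComplex.mk (biprod.inl : N₁ ⟶ N₁ ⊞ N₂) (biprod.snd : N₁ ⊞ N₂ ⟶ N₂)
      biprod.inl_snd).ShortExact := (ShortComplex.Splitting.ofHasBinaryBiproduct N₁ N₂).shortExact
    have h := (hF B _ hS).2
    have : x - AdeqTF.tangentMap B F (biprod.inr : N₂ ⟶ N₁ ⊞ N₂)
        (AdeqTF.tangentMap B F (biprod.snd : N₁ ⊞ N₂ ⟶ N₂) x) ∈
          (AdeqTF.tangentMap B F (biprod.snd : N₁ ⊞ N₂ ⟶ N₂)).ker := by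
      rw [AddMonoidHom.mem_ker, map_sub, tangentMap_comp (g := biprod.inr), biprod.inr_snd, tangentMap_id,
        sub_self]
    have h' : x - AdeqTF.tangentMap B F (biprod.inr : N₂ ⟶ N₁ ⊞ N₂)
        (AdeqTF.tangentMap B F (biprod.snd : N₁ ⊞ N₂ ⟶ N₂) x) ∈
          (AdeqTF.tangentMap B F (biprod.inl : N₁ ⟶ N₁ ⊞ N₂)).range := h ▸ this
    obtain ⟨a, ha⟩ := h'
    refine ⟨(a, AdeqTF.tangentMap B F (biprod.snd : N₁ ⊞ N₂ ⟶ N₂) x), ?_⟩
    rw [AddMonoidHom.coprod_apply, ha, sub_add_cancel]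

end K576.Tangent
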